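import Mathlib
import Groth.Prelude.Def_DecSh2
import Groth.Agent.Lib.Helper5.IntN.PosMain
import Groth.Agent.Lib.Helper5.Surf.NefOrthB
import Groth.Agent.Lib.Helper5.Glue.F
import Groth.Agent.Lib.Lead.QC.SerreSupp

set_option autoImplicit false
universe u
open CategoryTheory CategoryTheory.Limits AlgebraicGeometry TopologicalSpace Opposite

namespace Groth.Agent.H5.Dec

open Groth.Agent.LD Groth.Agent.LD.QC Groth.Agent.H5.IntN Groth.Agent.H5.NefOrth

attribute [-instance] Groth.Agent.LD.QC.stalkModule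

variable (k : Type u) [Field k] {X : Scheme.{u}} [X.Over (Spec (CommRingCat.of k))]
  [IsProper (X ↘ Spec (CommRingCat.of k))]

/-- the multiplicity as a one-slot intersection number with the inverse of `L`. -/
theorem mult_eq_intNum (hdim : topologicalKrullDim X ≤ 1) (L M : X.Modules)
    (hL : PicF.IsInvertible L) (hM : PicF.IsInvertible M)
    (e : CohB1.tensorMod L M ≅ Coh.structureModule X) (F : X.Modules) (hF : Coh.IsCoh F) :
    DecSh.mult k X L F = FGA.intNum k X 1 (fun _ : Fin 1 => M) F := by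
  have hsupp : topologicalKrullDim (CohB1.support F) ≤ 1 :=
    le_trans (topologicalKrullDim_subspace_le X _) hdim
  have hd : topologicalKrullDim X ≤ ((1 : ℕ) : WithBot ℕ∞) := by exact_mod_cast hdim
  have h1 := intNum_one_inverse k 1 hd L M hL hM e F hF hsupp
  rw [intNum_one_eq k 1 hd L hL F hF] at h1
  unfold DecSh.mult
  rw [Curve.euler_iso k X (tensorCommAll F L)]
  linarith

theorem mult_nonneg (hdim : topologicalKrullDim X ≤ 1) (L : X.Modules) (hL : CohB1.IsAmple L)
    (F : X.Modules) (hF : Coh.IsCoh F) : 0 ≤ DecSh.mult k X L F := by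
  obtain ⟨M, hM, ⟨e⟩⟩ := Groth.Agent.H5.Glue.exists_inverse L hL.1
  have hsupp : topologicalKrullDim (CohB1.support F) ≤ ((1 : ℕ) : WithBot ℕ∞) := by
    have := le_trans (topologicalKrullDim_subspace_le X (CohB1.support F)) hdim
    exact_mod_cast this
  have hd : topologicalKrullDim X ≤ ((1 : ℕ) : WithBot ℕ∞) := by exact_mod_cast hdim
  rw [mult_eq_intNum k hdim L M hL.1 hM e F hF]
  exact intNum_nonneg_of_isAmple k X 1 hd (fun _ : Fin 1 => L) (fun _ => M) (fun _ => hL)
    (fun _ => ⟨e⟩) F hF hsupp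

theorem mult_pos (hdim : topologicalKrullDim X ≤ 1) (L : X.Modules) (hL : CohB1.IsAmple L)
    (F : X.Modules) (hF : Coh.IsCoh F) (hsupp : topologicalKrullDim (CohB1.support F) = 1) :
    0 < DecSh.mult k X L F := by
  obtain ⟨M, hM, ⟨e⟩⟩ := Groth.Agent.H5.Glue.exists_inverse L hL.1
  have hsupp' : topologicalKrullDim (CohB1.support F) = ((1 : ℕ) : WithBot ℕ∞) := by
    exact_mod_cast hsupp
  have hd : topologicalKrullDim X ≤ ((1 : ℕ) : WithBot ℕ∞) := by exact_mod_cast hdim
  rw [mult_eq_intNum k hdim L M hL.1 hM e F hF]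
  exact intNum_pos_of_isAmple k X 1 hd (fun _ : Fin 1 => L) (fun _ => M) (fun _ => hL)
    (fun _ => ⟨e⟩) F hF hsupp'

theorem mult_iso (L : X.Modules) {F G : X.Modules} (e : F ≅ G) :
    DecSh.mult k X L F = DecSh.mult k X L G := by
  unfold DecSh.mult
  rw [Curve.euler_iso k X e, Curve.euler_iso k X (tensorIso' e (Iso.refl L))]

end Groth.Agent.H5.Dec
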