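import Mathlib
import Groth.Prelude.Def_DecSh

set_option autoImplicit false
universe v u
open CategoryTheory CategoryTheory.Limits

namespace Groth.Agent.H5.Dec

open DecSh

variable {C : Type u} [Category.{v} C] {E : C}

theorem nu_le (𝓕 : WFilt E) (αE : ℤ) (α : Subobject E → ℤ) {a : ℕ}
    (I : Fin a → Fin (𝓕.t + 1)) (i : Fin 𝓕.t) : 𝓕.nu αE α I i ≤ a := by
  unfold WFilt.nu
  calc _ ≤ (Finset.univ : Finset (Fin a)).card := Finset.card_filter_le _ _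
    _ = a := by rw [Finset.card_univ, Fintype.card_fin]

/-- δ-semistability tested on a one-step filtration. -/
theorem single_bound (ok : Subobject E → Prop) (αE : ℤ) (α : Subobject E → ℤ) (dE : ℚ)
    (d : Subobject E → ℚ) {a : ℕ} (N : NV E a) (δ : ℚ)
    (hss : IsDeltaSS ok αE α dE d N δ) (hδ : 0 ≤ δ) (hαE : 0 ≤ αE)
    (P : Subobject E) (hP : P ≠ ⊤) (hP0 : ¬ IsZero (P : C)) (hok : ok P) :
    (αE : ℚ) * d P - (α P : ℚ) * dE ≤ δ * (a : ℚ) * ((αE : ℚ) - (α P : ℚ)) := by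
  have h := hss (WFilt.single P hP hP0) (fun _ => hok)
  obtain ⟨I₀, -, hgam⟩ := (WFilt.single P hP hP0).exists_gam_eq_mu αE α N
  rw [← hgam] at h
  have hn := nu_le (WFilt.single P hP hP0) αE α I₀ (0 : Fin 1)
  have hm : (WFilt.single P hP hP0).msum αE α dE d = (αE : ℚ) * d P - (α P : ℚ) * dE := by
    unfold WFilt.msum
    change ∑ i : Fin 1, _ = _
    rw [Fin.sum_univ_one]
    change (1 : ℚ) * ((αE : ℚ) * d P - (α P : ℚ) * dE) = _
    rw [one_mul]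
  have hg : (WFilt.single P hP hP0).gam αE α I₀ =
      (a : ℚ) * (α P : ℚ) - ((WFilt.single P hP hP0).nu αE α I₀ (0 : Fin 1) : ℚ) * (αE : ℚ) := by
    unfold WFilt.gam
    change ∑ i : Fin 1, _ = _
    rw [Fin.sum_univ_one]
    change (1 : ℚ) * ((a : ℚ) * (α P : ℚ) - _) = _
    rw [one_mul]
  rw [hm, hg] at h
  have hn' : (((WFilt.single P hP hP0).nu αE α I₀ (0 : Fin 1) : ℕ) : ℚ) ≤ (a : ℚ) := by
    exact_mod_cast hn
  have hA : (0 : ℚ) ≤ (αE : ℚ) := by exact_mod_cast hαE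
  have h2 : (((WFilt.single P hP hP0).nu αE α I₀ (0 : Fin 1) : ℕ) : ℚ) * (αE : ℚ) ≤
      (a : ℚ) * (αE : ℚ) := mul_le_mul_of_nonneg_right hn' hA
  have h3 := mul_le_mul_of_nonneg_left h2 hδ
  nlinarith

end Groth.Agent.H5.Dec
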