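import Mathlib
import Groth.Prelude.Def_DecSh2
import Groth.Prelude.Def_TorSh
import Groth.Agent.Lib.Helper5.Dec.Mult
import Groth.Agent.Lib.Helper5.Dec.Single

set_option autoImplicit false
universe u
open CategoryTheory CategoryTheory.Limits AlgebraicGeometry TopologicalSpace Opposite

namespace Groth.Agent.H5.Dec

open Groth.Agent.LD Groth.Agent.LD.QC

attribute [-instance] Groth.Agent.LD.QC.stalkModule

variable (k : Type u) [Field k] {X : Scheme.{u}} [X.Over (Spec (CommRingCat.of k))]
  [IsProper (X ↘ Spec (CommRingCat.of k))]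

theorem slope_bound (hdim : topologicalKrullDim X ≤ 1)
    (L : X.Modules) (hL : CohB1.IsAmple L)
    (E : X.Modules) (hE : Coh.IsCoh E)
    {D : X.Modules} {a b : ℕ} (T : DecSh.TF E a b D)
    (δ : ℚ) (hδ : 0 < δ) (hT : T.IsSemistable k L δ)
    (F : X.Modules) (ι : F ⟶ E) [Mono ι] (hF : Coh.IsCoh F) (hF0 : ¬ IsZero F) (hι : ¬ IsIso ι) :
    (DecSh.mult k X L E : ℚ) * (Curv2.euler k X F : ℚ) -
        (DecSh.mult k X L F : ℚ) * (Curv2.euler k X E : ℚ)
      ≤ δ * (a : ℚ) * ((DecSh.mult k X L E : ℚ) - (DecSh.mult k X L F : ℚ)) := by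
  let e : ((Subobject.mk ι : Subobject E) : X.Modules) ≅ F := Subobject.underlyingIso ι
  have hP : (Subobject.mk ι : Subobject E) ≠ ⊤ := by
    intro h
    apply hι
    have h1 : IsIso (Subobject.mk ι).arrow := (Subobject.isIso_arrow_iff_eq_top _).mpr h
    have h2 : e.inv ≫ (Subobject.mk ι).arrow = ι := Subobject.underlyingIso_arrow ι
    rw [← h2]
    infer_instance
  have hP0 : ¬ IsZero ((Subobject.mk ι : Subobject E) : X.Modules) :=
    fun h => hF0 (h.of_iso e.symm)
  have hok : Coh.IsCoh ((Subobject.mk ι : Subobject E) : X.Modules) := isCoh_of_iso e.symm hF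
  have hαE := mult_nonneg k hdim L hL E hE
  have h := single_bound (fun P : Subobject E => Coh.IsCoh (P : X.Modules)) (DecSh.mult k X L E)
    (fun P => DecSh.mult k X L (P : X.Modules)) (Curv2.euler k X E)
    (fun P => (Curv2.euler k X (P : X.Modules) : ℚ)) T.nv δ hT hδ.le hαE (Subobject.mk ι)
    hP hP0 hok
  beta_reduce at h
  rw [mult_iso k L e, Curve.euler_iso k X e] at h
  exact h

end Groth.Agent.H5.Dec
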