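import Mathlib
import Groth.Prelude.Def_DecSh
import Groth.Agent.Lib.Helper5.Dec.Single

set_option autoImplicit false
universe v u
open CategoryTheory CategoryTheory.Limits

namespace Groth.Agent.H5.Dec

open DecSh

variable {C : Type u} [Category.{v} C] {E : C}

theorem mulX_le (𝓕 : WFilt E) (αE : ℤ) (α : Subobject E → ℤ)
    (h2 : ∀ i, α (𝓕.piece i) ≤ αE) (q : Fin (𝓕.t + 1)) : 𝓕.mulX αE α q ≤ αE := by
  induction q using Fin.lastCases with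
  | last => rw [WFilt.mulX_last]
  | cast i => rw [WFilt.mulX_castSucc]; exact h2 i

/-- bounds for the coefficient `a α(F_i) − ν_i(I) αE`. -/
theorem coeff_bounds (𝓕 : WFilt E) (αE : ℤ) (α : Subobject E → ℤ) {a : ℕ}
    (I : Fin a → Fin (𝓕.t + 1)) (i : Fin 𝓕.t)
    (h1 : 1 ≤ α (𝓕.piece i)) (h2 : ∀ i, α (𝓕.piece i) ≤ αE) :
    -((a : ℤ) * (αE - 1)) ≤ (a : ℤ) * α (𝓕.piece i) - (𝓕.nu αE α I i : ℤ) * αE ∧
      (a : ℤ) * α (𝓕.piece i) - (𝓕.nu αE α I i : ℤ) * αE ≤ (a : ℤ) * (αE - 1) := by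
  have hν : (𝓕.nu αE α I i : ℤ) ≤ (a : ℤ) := by exact_mod_cast nu_le 𝓕 αE α I i
  have hν0 : (0 : ℤ) ≤ (𝓕.nu αE α I i : ℤ) := by positivity
  have ha : (0 : ℤ) ≤ (a : ℤ) := by positivity
  have hαE : 1 ≤ αE := h1.trans (h2 i)
  constructor
  · nlinarith [mul_nonneg ha (sub_nonneg.2 h1),
      mul_nonneg (sub_nonneg.2 hν) (le_trans zero_le_one hαE)]
  · by_cases hall : ∀ j, 𝓕.mulX αE α (I j) ≤ α (𝓕.piece i)
    · have hcard : 𝓕.nu αE α I i = a := by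
        unfold WFilt.nu
        rw [Finset.filter_true_of_mem (fun j _ => hall j), Finset.card_univ, Fintype.card_fin]
      rw [hcard]
      nlinarith [mul_nonneg ha (sub_nonneg.2 (h2 i)), mul_nonneg ha (sub_nonneg.2 hαE)]
    · push Not at hall
      obtain ⟨j, hj⟩ := hall
      have hlt : α (𝓕.piece i) < αE := lt_of_lt_of_le hj (mulX_le 𝓕 αE α h2 (I j))
      have hle : α (𝓕.piece i) ≤ αE - 1 := by omega
      nlinarith [mul_le_mul_of_nonneg_left hle ha,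
        mul_nonneg hν0 (le_trans zero_le_one hαE)]

/-- `|μ| ≤ (Σ m_i) a (αE − 1)`. -/
theorem abs_mu_le (𝓕 : WFilt E) (αE : ℤ) (α : Subobject E → ℤ) {a : ℕ} (N : NV E a)
    (h1 : ∀ i, 1 ≤ α (𝓕.piece i)) (h2 : ∀ i, α (𝓕.piece i) ≤ αE) :
    |𝓕.mu αE α N| ≤ (∑ i, 𝓕.wt i) * (a : ℚ) * ((αE : ℚ) - 1) := by
  obtain ⟨I₀, -, hgam⟩ := 𝓕.exists_gam_eq_mu αE α N
  rw [← hgam]
  unfold WFilt.gam
  calc |∑ i, 𝓕.wt i * ((a : ℚ) * (α (𝓕.piece i) : ℚ) - (𝓕.nu αE α I₀ i : ℚ) * (αE : ℚ))|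
      ≤ ∑ i, |𝓕.wt i * ((a : ℚ) * (α (𝓕.piece i) : ℚ) - (𝓕.nu αE α I₀ i : ℚ) * (αE : ℚ))| :=
        Finset.abs_sum_le_sum_abs _ _
    _ ≤ ∑ i, 𝓕.wt i * ((a : ℚ) * ((αE : ℚ) - 1)) := by
        apply Finset.sum_le_sum
        intro i _
        rw [abs_mul, abs_of_pos (𝓕.wt_pos i)]
        apply mul_le_mul_of_nonneg_left _ (𝓕.wt_pos i).le
        obtain ⟨hl, hu⟩ := coeff_bounds 𝓕 αE α I₀ i (h1 i) h2
        rw [abs_le]
        constructor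
        · have : ((-((a : ℤ) * (αE - 1)) : ℤ) : ℚ) ≤
              (((a : ℤ) * α (𝓕.piece i) - (𝓕.nu αE α I₀ i : ℤ) * αE : ℤ) : ℚ) := by
            exact_mod_cast hl
          push_cast at this
          linarith
        · have : ((((a : ℤ) * α (𝓕.piece i) - (𝓕.nu αE α I₀ i : ℤ) * αE : ℤ)) : ℚ) ≤
              (((a : ℤ) * (αE - 1) : ℤ) : ℚ) := by
            exact_mod_cast hu
          push_cast at this
          linarith
    _ = (∑ i, 𝓕.wt i) * (a : ℚ) * ((αE : ℚ) - 1) := by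
        rw [← Finset.sum_mul, mul_assoc]

end Groth.Agent.H5.Dec
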