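import Mathlib

set_option autoImplicit false
universe u

namespace Groth.Agent.H5.Dec

/-- in a reduced ring, an element outside all minimal primes is regular. -/
theorem isRegular_of_notMem_minimalPrimes {R : Type*} [CommRing R] [IsReduced R] (t : R)
    (ht : ∀ p ∈ minimalPrimes R, t ∉ p) : IsRegular t := by
  have key : ∀ a : R, t * a = 0 → a = 0 := by
    intro a ha
    have h1 : a ∈ sInf (minimalPrimes R) := by
      rw [Ideal.mem_sInf]
      intro p hp
      have hpp : p.IsPrime := hp.1.1
      have : t * a ∈ p := by rw [ha]; exact p.zero_mem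
      rcases hpp.mem_or_mem this with h | h
      · exact absurd h (ht p hp)
      · exact h
    have h2 : sInf (minimalPrimes R) = nilradical R := by
      unfold minimalPrimes nilradical
      exact Ideal.sInf_minimalPrimes
    rw [h2, nilradical_eq_zero] at h1
    exact h1
  refine ⟨fun a b hab => ?_, fun a b hab => ?_⟩
  · have : t * (a - b) = 0 := by rw [mul_sub]; exact sub_eq_zero.mpr hab
    exact sub_eq_zero.mp (key _ this)
  · have h' : a * t = b * t := hab
    have : t * (a - b) = 0 := by rw [mul_sub, mul_comm t a, mul_comm t b]; exact sub_eq_zero.mpr h'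
    exact sub_eq_zero.mp (key _ this)

/-- a torsion-free module over a reduced Noetherian local ring has the maximal ideal as an
associated prime only if the ring has dimension zero. -/
theorem ringKrullDim_eq_zero_of_isAssociatedPrime {R N : Type*} [CommRing R] [IsNoetherianRing R]
    [IsReduced R] [IsLocalRing R] [AddCommGroup N] [Module R N] [Module.IsTorsionFree R N]
    (h : IsAssociatedPrime (IsLocalRing.maximalIdeal R) N) : ringKrullDim R = 0 := by
  classical
  obtain ⟨n, hn⟩ := (isAssociatedPrime_iff.mp h).2
  have hn0 : n ≠ 0 := by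
    intro h0
    have h1 : (1 : R) ∈ IsLocalRing.maximalIdeal R := by
      rw [hn, h0, Submodule.mem_colon_singleton, smul_zero]
      exact Submodule.zero_mem _
    exact (IsLocalRing.maximalIdeal.isMaximal R).ne_top ((Ideal.eq_top_iff_one _).2 h1)
  have hnr : ∀ t ∈ IsLocalRing.maximalIdeal R, ¬ IsRegular t := by
    intro t ht hreg
    apply hn0
    have h1 : t • n = 0 := by
      rw [hn, Submodule.mem_colon_singleton] at ht
      exact (Submodule.mem_bot R).mp ht
    have h2 := Module.IsTorsionFree.isSMulRegular (M := N) hreg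
    exact h2 (by change t • n = t • 0; rw [h1, smul_zero])
  have hfin := minimalPrimes.finite_of_isNoetherianRing R
  have hsub : ((IsLocalRing.maximalIdeal R : Ideal R) : Set R) ⊆
      ⋃ p ∈ hfin.toFinset, ((p : Ideal R) : Set R) := by
    intro t ht
    by_contra hcon
    apply hnr t ht
    apply isRegular_of_notMem_minimalPrimes
    intro p hp htp
    apply hcon
    simp only [Set.mem_iUnion]
    exact ⟨p, hfin.mem_toFinset.mpr hp, htp⟩
  have hav := (Ideal.subset_union_prime (s := hfin.toFinset) (f := fun p : Ideal R => p)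
    ⊥ ⊥ (fun p hp _ _ => (hfin.mem_toFinset.mp hp).1.1)).mp hsub
  obtain ⟨p, hp, hmp⟩ := hav
  have hpmin : p ∈ minimalPrimes R := hfin.mem_toFinset.mp hp
  have hpp : p.IsPrime := hpmin.1.1
  have hpm : p = IsLocalRing.maximalIdeal R :=
    ((IsLocalRing.maximalIdeal.isMaximal R).eq_of_le hpp.ne_top hmp).symm
  have hK : Ring.KrullDimLE 0 R := by
    rw [Ring.krullDimLE_zero_iff_forall_minimalPrimes_isMaximal]
    intro I hI
    have hIp : I.IsPrime := hI.1.1
    have hIle : I ≤ p := by rw [hpm]; exact IsLocalRing.le_maximalIdeal hIp.ne_top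
    have hpI : p ≤ I := hpmin.2 ⟨hIp, bot_le⟩ hIle
    have : I = IsLocalRing.maximalIdeal R := by rw [← hpm]; exact le_antisymm hIle hpI
    rw [this]
    exact IsLocalRing.maximalIdeal.isMaximal R
  exact ringKrullDimZero_iff_ringKrullDim_eq_zero.mp hK

end Groth.Agent.H5.Dec
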