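import Mathlib
import Groth.Prelude.Def_TorSh
import Groth.Prelude.Def_CurvBase
import Groth.Agent.Lib.Helper5.Dec.TFAlg
import Groth.Agent.Lib.Helper3.AssSupp
import Groth.Agent.Lib.Helper1.GenPts
import Groth.Agent.Lib.Lead.QC.SuppSES
import Groth.Agent.Lib.Lead.QC.Devissage
import Groth.Agent.Lib.Helper5.Snap.Cycle0
import Groth.Agent.Lib.Helper5.Snap.Main

set_option autoImplicit false
universe u
open CategoryTheory CategoryTheory.Limits AlgebraicGeometry TopologicalSpace Opposite

namespace Groth.Agent.H5.Dec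

open Groth.Agent.LD Groth.Agent.LD.QC

attribute [-instance] Groth.Agent.LD.QC.stalkModule

variable {X : Scheme.{u}}

/-- the stalk map as a plain function between the stalks. -/
noncomputable def stalkFun {F E : X.Modules} (ι : F ⟶ E) (x : X) :
    F.presheaf.stalk x → E.presheaf.stalk x :=
  fun m => ((TopCat.Presheaf.stalkFunctor _ x).map ι.mapPresheaf).hom m

/-- stalk maps are linear over the local ring. -/
theorem stalkMap_smul {F E : X.Modules} (ι : F ⟶ E) (x : X) (r : X.presheaf.stalk x)
    (m : F.presheaf.stalk x) :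
    stalkFun ι x (r • m) = r • stalkFun ι x m := by
  unfold stalkFun
  obtain ⟨V, hxV, s, rfl⟩ := TopCat.Presheaf.exists_germ_eq F.presheaf m
  obtain ⟨W, hxW, a, rfl⟩ := TopCat.Presheaf.exists_germ_eq X.presheaf r
  have hV : V ⊓ W ≤ V := inf_le_left
  have hW : V ⊓ W ≤ W := inf_le_right
  have hx : x ∈ V ⊓ W := ⟨hxV, hxW⟩
  have h1 : F.presheaf.germ V x hxV s =
      F.presheaf.germ (V ⊓ W) x hx (F.presheaf.map (homOfLE hV).op s) :=
    (TopCat.Presheaf.germ_res_apply F.presheaf (homOfLE hV) x hx s).symm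
  have h2 : X.presheaf.germ W x hxW a =
      X.presheaf.germ (V ⊓ W) x hx (X.presheaf.map (homOfLE hW).op a) :=
    (TopCat.Presheaf.germ_res_apply X.presheaf (homOfLE hW) x hx a).symm
  rw [h1, h2]
  have e1 := germ_smul F x (V ⊓ W) hx (X.presheaf.map (homOfLE hW).op a)
    (F.presheaf.map (homOfLE hV).op s)
  have e2 := germ_smul E x (V ⊓ W) hx (X.presheaf.map (homOfLE hW).op a)
    (ι.app (V ⊓ W) (F.presheaf.map (homOfLE hV).op s))
  have e3 := stalkMap_germ ι x (V ⊓ W) hx (F.presheaf.map (homOfLE hV).op s)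
  have e4 := stalkMap_germ ι x (V ⊓ W) hx ((X.presheaf.map (homOfLE hW).op a) •
    (F.presheaf.map (homOfLE hV).op s))
  rw [Scheme.Modules.Hom.app_smul] at e4
  refine (congrArg _ e1.symm).trans (e4.trans (e2.trans ?_))
  exact congrArg _ e3.symm

theorem isTorsionFree_of_mono {F E : X.Modules} (ι : F ⟶ E) [Mono ι]
    (hE : TorSh.IsTorsionFree E) : TorSh.IsTorsionFree F := by
  intro x
  haveI := hE x
  exact Function.Injective.moduleIsTorsionFree (N := E.presheaf.stalk x)
    (stalkFun ι x) (stalkMap_injective_of_mono ι x)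
    (fun r m => stalkMap_smul ι x r m)

/-- a nonzero torsion-free quasi-coherent module on a reduced locally Noetherian scheme has an
irreducible component in its support (closed support assumed). -/
theorem exists_component_subset_support [IsLocallyNoetherian X] [IsReduced X] (F : X.Modules)
    [F.IsQuasicoherent] (hcl : IsClosed (CohB1.support F)) (htf : TorSh.IsTorsionFree F)
    (h0 : ¬ IsZero F) :
    ∃ Z ∈ irreducibleComponents X, Z ⊆ CohB1.support F := by
  have h1 : ¬ ∀ x : X, Subsingleton (F.presheaf.stalk x) :=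
    fun h => h0 ((isZero_iff_subsingleton_stalks F).mpr h)
  push Not at h1
  obtain ⟨y, hy⟩ := h1
  obtain ⟨x, -, hx⟩ := Groth.Agent.H3.AssSupp.exists_ass_generization F y hy
  haveI := htf x
  have hdim : ringKrullDim (X.presheaf.stalk x) = 0 :=
    ringKrullDim_eq_zero_of_isAssociatedPrime hx
  refine ⟨closure {x}, Groth.Agent.H1.GenPts.closure_mem_irreducibleComponents_of_stalk_dim_eq_zero
    x hdim, ?_⟩
  apply closure_minimal _ hcl
  rw [Set.singleton_subset_iff]
  have := Groth.Agent.H3.AssSupp.nontrivial_stalk_of_isAssPoint F x hx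
  exact not_subsingleton_iff_nontrivial.mpr this

end Groth.Agent.H5.Dec
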