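import Mathlib
import Groth.Agent.Lib.Helper5.Snap.Cycle0
import Groth.Agent.Lib.Helper5.Snap.Main
import Groth.Agent.Lib.Helper5.AG.LocalDim

set_option autoImplicit false
universe u
open TopologicalSpace

namespace Groth.Agent.H5.Dec

open Groth.Agent.H5.Snap

/-- in a Noetherian sober space of dimension `≤ 1` without open points, a subset containing an
irreducible component has dimension one. -/
theorem dim_eq_one_of_component_subset {T : Type*} [TopologicalSpace T] [QuasiSober T] [T0Space T]
    [NoetherianSpace T] (hdim : topologicalKrullDim T ≤ 1)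
    (hpure : ∀ x : T, ¬ IsOpen ({x} : Set T)) (S Z : Set T)
    (hZ : Z ∈ irreducibleComponents T) (hZS : Z ⊆ S) : topologicalKrullDim S = 1 := by
  classical
  apply le_antisymm ((topologicalKrullDim_subspace_le T S).trans hdim)
  by_contra hnot
  have hlt : topologicalKrullDim S < 1 := lt_of_not_ge hnot
  have hle0 : topologicalKrullDim S ≤ 0 := by
    have h1 : (1 : WithBot ℕ∞) = ((1 : ℕ∞) : WithBot ℕ∞) := rfl
    rw [h1] at hlt
    cases h : topologicalKrullDim S with
    | bot => exact bot_le
    | coe a =>
      rw [h, WithBot.coe_lt_coe, ENat.lt_one_iff_eq_zero] at hlt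
      rw [hlt]
      rfl
  have hZ0 : topologicalKrullDim Z ≤ ((0 : ℕ) : WithBot ℕ∞) := by
    have := (dim_mono hZS).trans hle0
    exact_mod_cast this
  have hZirr : IsIrreducible Z := hZ.1
  have hZcl : IsClosed Z := isClosed_of_mem_irreducibleComponents Z hZ
  obtain ⟨η, hη⟩ := QuasiSober.sober hZirr hZcl
  have hηZ : closure ({η} : Set T) = Z := hη.def
  have hZeq : Z = {η} := by
    ext y
    constructor
    · intro hy
      have hyc : y ∈ closure ({η} : Set T) := by rw [hηZ]; exact hy
      have hsub : closure ({y} : Set T) ⊆ Z := closure_minimal (Set.singleton_subset_iff.mpr hy) hZcl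
      have hy0 : topologicalKrullDim (closure ({y} : Set T)) = ((0 : ℕ) : WithBot ℕ∞) := by
        apply le_antisymm ((dim_mono hsub).trans hZ0)
        haveI : Nonempty (closure ({y} : Set T)) := ⟨⟨y, subset_closure rfl⟩⟩
        exact_mod_cast Groth.Agent.H5.AG.topologicalKrullDim_nonneg _
      exact eq_of_dim_closure_eq y η hyc 0 (by rw [hηZ]; exact hZ0) hy0
    · intro hy
      rw [Set.mem_singleton_iff] at hy
      rw [hy, ← hηZ]
      exact subset_closure rfl
  have hfin : (irreducibleComponents T).Finite := NoetherianSpace.finite_irreducibleComponents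
  apply hpure η
  have hcompl : ({η} : Set T)ᶜ = ⋃ Z' ∈ (irreducibleComponents T \ {Z}), Z' := by
    ext y
    simp only [Set.mem_compl_iff, Set.mem_singleton_iff, Set.mem_iUnion, Set.mem_diff, exists_prop]
    constructor
    · intro hy
      obtain ⟨Z', hZ', hyZ'⟩ := exists_mem_irreducibleComponents_subset_of_isIrreducible
        ({y} : Set T) isIrreducible_singleton
      refine ⟨Z', ⟨hZ', ?_⟩, hyZ' rfl⟩
      intro hZZ'
      have : y ∈ Z := hZZ' ▸ hyZ' rfl
      rw [hZeq] at this
      exact hy this
    · rintro ⟨Z', ⟨hZ', hne⟩, hyZ'⟩ hy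
      apply hne
      rw [hy] at hyZ'
      have hsub : Z ⊆ Z' := by
        rw [hZeq]
        exact Set.singleton_subset_iff.mpr hyZ'
      exact (hZ.2 hZ'.1 hsub).antisymm hsub
  rw [← isClosed_compl_iff, hcompl]
  exact (hfin.subset Set.sdiff_subset).isClosed_biUnion
    (fun Z' hZ' => isClosed_of_mem_irreducibleComponents Z' hZ'.1)

end Groth.Agent.H5.Dec
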