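import Mathlib
import Groth.Prelude.Def_DecSh2
import Groth.Prelude.Def_TorSh
import Groth.Agent.Lib.Helper5.Dec.Mult
import Groth.Agent.Lib.Helper5.Dec.TF
import Groth.Agent.Lib.Helper5.Dec.Topo
import Groth.Agent.Lib.Lead.QC.TensorExact

set_option autoImplicit false
universe u
open CategoryTheory CategoryTheory.Limits AlgebraicGeometry TopologicalSpace Opposite

namespace Groth.Agent.H5.Dec

open Groth.Agent.LD Groth.Agent.LD.QC Groth.Agent.H5.DegC

attribute [-instance] Groth.Agent.LD.QC.stalkModule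

variable (k : Type u) [Field k] {X : Scheme.{u}} [X.Over (Spec (CommRingCat.of k))]
  [IsProper (X ↘ Spec (CommRingCat.of k))]

include k in
theorem dim_support_eq_one [IsReduced X] (hdim : topologicalKrullDim X ≤ 1)
    (hpure : ∀ x : X, ¬ IsOpen ({x} : Set X))
    (F : X.Modules) (hF : Coh.IsCoh F) (htf : TorSh.IsTorsionFree F) (h0 : ¬ IsZero F) :
    topologicalKrullDim (CohB1.support F) = 1 := by
  haveI := Curve.isLocallyNoetherian k X
  haveI : IsNoetherian X := Curve2.isNoetherian_of_proper k X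
  haveI := hF.1
  obtain ⟨Z, hZ, hZS⟩ := exists_component_subset_support F (isClosed_support_of_isCoh hF) htf h0
  exact dim_eq_one_of_component_subset hdim hpure _ Z hZ hZS

theorem one_le_mult [IsReduced X] (hdim : topologicalKrullDim X ≤ 1)
    (hpure : ∀ x : X, ¬ IsOpen ({x} : Set X)) (L : X.Modules) (hL : CohB1.IsAmple L)
    (F : X.Modules) (hF : Coh.IsCoh F) (htf : TorSh.IsTorsionFree F) (h0 : ¬ IsZero F) :
    1 ≤ DecSh.mult k X L F := by
  have := mult_pos k hdim L hL F hF (dim_support_eq_one k hdim hpure F hF htf h0)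
  omega

theorem mult_add (L : X.Modules) (hL : PicF.IsInvertible L) (S : ShortComplex X.Modules)
    (hS : S.ShortExact) (h₁ : Coh.IsCoh S.X₁) (h₂ : Coh.IsCoh S.X₂) (h₃ : Coh.IsCoh S.X₃) :
    DecSh.mult k X L S.X₂ = DecSh.mult k X L S.X₁ + DecSh.mult k X L S.X₃ := by
  haveI := Curve.isLocallyNoetherian k X
  have hLc := Curve2.isCoh_of_isInvertible hL
  have hT := shortExact_tensorMap_of_isInvertible hS L hL
  have e1 := Curve.euler_add k X S hS h₁ h₂ h₃
  have e2 := Curve.euler_add k X _ hT (isCoh_tensorMod' h₁ hLc) (isCoh_tensorMod' h₂ hLc)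
    (isCoh_tensorMod' h₃ hLc)
  unfold DecSh.mult
  change Curv2.euler k X (CohB1.tensorMod S.X₂ L) =
    Curv2.euler k X (CohB1.tensorMod S.X₁ L) + Curv2.euler k X (CohB1.tensorMod S.X₃ L) at e2
  rw [e1, e2]
  ring

theorem mult_le_of_mono (hdim : topologicalKrullDim X ≤ 1) (L : X.Modules) (hL : CohB1.IsAmple L)
    {F E : X.Modules} (ι : F ⟶ E) [Mono ι] (hF : Coh.IsCoh F) (hE : Coh.IsCoh E) :
    DecSh.mult k X L F ≤ DecSh.mult k X L E := by
  have hses : (ShortComplex.mk ι (cokernel.π ι) (cokernel.condition ι)).ShortExact :=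
    { exact := ShortComplex.exact_of_g_is_cokernel _ (cokernelIsCokernel ι)
      mono_f := inferInstanceAs (Mono ι)
      epi_g := inferInstanceAs (Epi (cokernel.π ι)) }
  have hQ : Coh.IsCoh (cokernel ι) := isCoh_cokernel ι hF hE
  have h1 := mult_add k L hL.1 _ hses hF hE hQ
  have h2 := mult_nonneg k hdim L hL (cokernel ι) hQ
  change DecSh.mult k X L E = DecSh.mult k X L F + DecSh.mult k X L (cokernel ι) at h1
  omega

end Groth.Agent.H5.Dec
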