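import Mathlib
import Groth.Prelude.Def_DecSh
import Groth.Agent.Lib.Helper5.Dec.MuBound

set_option autoImplicit false
universe v u
open CategoryTheory CategoryTheory.Limits

namespace Groth.Agent.H5.Dec

open DecSh

variable {C : Type u} [Category.{v} C] {E : C}

/-- dropping steps of total weight `w` raises `μ` by at most `w a (αE − 1)`. -/
theorem mu_le_sub (𝓕 𝓕₁ : WFilt E) (e : Fin 𝓕₁.t → Fin 𝓕.t)
    (hpiece : ∀ j, 𝓕₁.piece j = 𝓕.piece (e j)) (hwt : ∀ j, 𝓕₁.wt j = 𝓕.wt (e j))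
    (αE : ℤ) (α : Subobject E → ℤ) {a : ℕ} (N : NV E a)
    (h1 : ∀ i, 1 ≤ α (𝓕.piece i)) (h2 : ∀ i, α (𝓕.piece i) ≤ αE) :
    𝓕.mu αE α N ≤ 𝓕₁.mu αE α N +
      ((∑ i, 𝓕.wt i) - ∑ j, 𝓕₁.wt j) * (a : ℚ) * ((αE : ℚ) - 1) := by
  classical
  have he : Function.Injective e := fun j j' h =>
    𝓕₁.piece_strictMono.injective (by rw [hpiece, hpiece, h])
  let ebar : Fin (𝓕₁.t + 1) → Fin (𝓕.t + 1) :=
    Fin.lastCases (Fin.last _) (fun j => (e j).castSucc)
  have hpX : ∀ q, 𝓕.pieceX (ebar q) = 𝓕₁.pieceX q := by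
    intro q
    induction q using Fin.lastCases with
    | last =>
      change 𝓕.pieceX (Fin.lastCases (Fin.last _) (fun j => (e j).castSucc) (Fin.last _)) = _
      rw [Fin.lastCases_last, WFilt.pieceX_last, WFilt.pieceX_last]
    | cast j =>
      change 𝓕.pieceX (Fin.lastCases (Fin.last _) (fun j => (e j).castSucc) j.castSucc) = _
      rw [Fin.lastCases_castSucc, WFilt.pieceX_castSucc, WFilt.pieceX_castSucc, hpiece]
  have hmX : ∀ q, 𝓕.mulX αE α (ebar q) = 𝓕₁.mulX αE α q := by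
    intro q
    induction q using Fin.lastCases with
    | last =>
      change 𝓕.mulX αE α (Fin.lastCases (Fin.last _) (fun j => (e j).castSucc) (Fin.last _)) = _
      rw [Fin.lastCases_last, WFilt.mulX_last, WFilt.mulX_last]
    | cast j =>
      change 𝓕.mulX αE α (Fin.lastCases (Fin.last _) (fun j => (e j).castSucc) j.castSucc) = _
      rw [Fin.lastCases_castSucc, WFilt.mulX_castSucc, WFilt.mulX_castSucc, hpiece]
  obtain ⟨I₁, hadm, hgam⟩ := 𝓕₁.exists_gam_eq_mu αE α N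
  let I : Fin a → Fin (𝓕.t + 1) := fun l => ebar (I₁ l)
  have hadmI : 𝓕.Adm N I := by
    unfold WFilt.Adm at hadm ⊢
    have : (fun j => 𝓕.pieceX (I j)) = fun j => 𝓕₁.pieceX (I₁ j) := by
      funext j
      exact hpX (I₁ j)
    rw [this]
    exact hadm
  have hν : ∀ j, 𝓕.nu αE α I (e j) = 𝓕₁.nu αE α I₁ j := by
    intro j
    unfold WFilt.nu
    congr 1
    ext l
    simp only [Finset.mem_filter, Finset.mem_univ, true_and]
    change 𝓕.mulX αE α (ebar (I₁ l)) ≤ α (𝓕.piece (e j)) ↔ _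
    rw [hmX, hpiece]
  have hle := 𝓕.mu_le_gam αE α N hadmI
  refine hle.trans ?_
  rw [← hgam]
  unfold WFilt.gam
  set f : Fin 𝓕.t → ℚ := fun i =>
    𝓕.wt i * ((a : ℚ) * (α (𝓕.piece i) : ℚ) - (𝓕.nu αE α I i : ℚ) * (αE : ℚ)) with hf
  have hsplit := Finset.sum_sdiff (s₁ := Finset.univ.image e) (s₂ := Finset.univ) (f := f)
    (Finset.subset_univ _)
  have himg : ∑ i ∈ Finset.univ.image e, f i =
      ∑ j, 𝓕₁.wt j * ((a : ℚ) * (α (𝓕₁.piece j) : ℚ) - (𝓕₁.nu αE α I₁ j : ℚ) * (αE : ℚ)) := by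
    rw [Finset.sum_image (fun x _ y _ h => he h)]
    refine Finset.sum_congr rfl (fun j _ => ?_)
    rw [hf]
    beta_reduce
    rw [hν, ← hwt, ← hpiece]
  have hsplitw := Finset.sum_sdiff (s₁ := Finset.univ.image e) (s₂ := Finset.univ) (f := 𝓕.wt)
    (Finset.subset_univ _)
  have himgw : ∑ i ∈ Finset.univ.image e, 𝓕.wt i = ∑ j, 𝓕₁.wt j := by
    rw [Finset.sum_image (fun x _ y _ h => he h)]
    exact Finset.sum_congr rfl (fun j _ => (hwt j).symm)
  have hrest : ∑ i ∈ Finset.univ \ Finset.univ.image e, f i ≤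
      (∑ i ∈ Finset.univ \ Finset.univ.image e, 𝓕.wt i) * ((a : ℚ) * ((αE : ℚ) - 1)) := by
    rw [Finset.sum_mul]
    apply Finset.sum_le_sum
    intro i _
    rw [hf]
    beta_reduce
    apply mul_le_mul_of_nonneg_left _ (𝓕.wt_pos i).le
    obtain ⟨-, hu⟩ := coeff_bounds 𝓕 αE α I i (h1 i) h2
    have : ((((a : ℤ) * α (𝓕.piece i) - (𝓕.nu αE α I i : ℤ) * αE : ℤ)) : ℚ) ≤
        (((a : ℤ) * (αE - 1) : ℤ) : ℚ) := by
      exact_mod_cast hu
    push_cast at this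
    linarith
  have hw : ∑ i ∈ Finset.univ \ Finset.univ.image e, 𝓕.wt i =
      (∑ i, 𝓕.wt i) - ∑ j, 𝓕₁.wt j := by
    rw [← hsplitw, himgw]
    ring
  rw [← hsplit, himg]
  rw [hw] at hrest
  linarith

end Groth.Agent.H5.Dec
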