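import Mathlib
import Groth.Prelude.Def_DecSh2
import Groth.Prelude.Def_TorSh
import Groth.Agent.Lib.Helper5.Dec.Main2
import Groth.Agent.Lib.Helper5.Dec.SubFilt

set_option autoImplicit false
universe u
open CategoryTheory CategoryTheory.Limits AlgebraicGeometry TopologicalSpace Opposite

namespace Groth.Agent.H5.Dec

open Groth.Agent.LD Groth.Agent.LD.QC

attribute [-instance] Groth.Agent.LD.QC.stalkModule

variable (k : Type u) [Field k] {X : Scheme.{u}} [X.Over (Spec (CommRingCat.of k))]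
  [IsProper (X ↘ Spec (CommRingCat.of k))]

theorem mu_sub_bound [IsReduced X] (hdim : topologicalKrullDim X ≤ 1)
    (hpure : ∀ x : X, ¬ IsOpen ({x} : Set X)) (L : X.Modules) (hL : CohB1.IsAmple L)
    (E : X.Modules) (hE : Coh.IsCoh E) (htf : TorSh.IsTorsionFree E)
    {D : X.Modules} {a b : ℕ} (T : DecSh.TF E a b D)
    (𝓕 𝓕₁ : DecSh.WFilt E) (e : Fin 𝓕₁.t → Fin 𝓕.t)
    (hpiece : ∀ j, 𝓕₁.piece j = 𝓕.piece (e j)) (hwt : ∀ j, 𝓕₁.wt j = 𝓕.wt (e j))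
    (hcoh : ∀ i, Coh.IsCoh ((𝓕.piece i : Subobject E) : X.Modules)) :
    T.mu k L 𝓕 ≤ T.mu k L 𝓕₁ +
      ((∑ i, 𝓕.wt i) - ∑ j, 𝓕₁.wt j) * (a : ℚ) * ((DecSh.mult k X L E : ℚ) - 1) := by
  obtain ⟨h1, h2⟩ := piece_bounds k hdim hpure L hL E hE htf 𝓕 hcoh
  exact mu_le_sub 𝓕 𝓕₁ e hpiece hwt (DecSh.mult k X L E)
    (fun P => DecSh.mult k X L (P : X.Modules)) T.nv h1 h2

end Groth.Agent.H5.Dec
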