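import Mathlib
import Groth.Prelude.Def_DecSh2
import Groth.Prelude.Def_TorSh
import Groth.Agent.Lib.Helper5.Dec.Pos
import Groth.Agent.Lib.Helper5.Dec.Single
import Groth.Agent.Lib.Helper1.SmoothGeom
import Groth.Agent.Lib.Lead.Curve.DegMono
import Groth.Agent.Lib.Lead.QC.QuotSupp
import Groth.Agent.Lib.Lead.QC.LocFree

set_option autoImplicit false
universe u
open CategoryTheory CategoryTheory.Limits AlgebraicGeometry TopologicalSpace Opposite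

namespace Groth.Agent.H5.Dec

open Groth.Agent.LD Groth.Agent.LD.QC Groth.Agent.H5.DegC

attribute [-instance] Groth.Agent.LD.QC.stalkModule

variable (k : Type u) [Field k] {Y : Scheme.{u}} [Y.Over (Spec (CommRingCat.of k))]
  [IsProper (Y ↘ Spec (CommRingCat.of k))]

theorem isTorsionFree_of_isFinLocFree (E : Y.Modules) (hE : FlatMod.IsFinLocFree E) :
    TorSh.IsTorsionFree E := by
  intro y
  haveI : Module.Free (Y.presheaf.stalk y) (E.presheaf.stalk y) :=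
    free_stalk_of_isFinLocFree E hE y
  infer_instance

theorem par_sum_bounds {ν : ℕ} (κ : Fin ν → ℚ) (hκ : ∀ i, 0 < κ i ∧ κ i < 1) (q : Fin ν → ℕ)
    (r : ℕ) (hq : ∀ i, q i ≤ r) :
    0 ≤ ∑ i, κ i * (q i : ℚ) ∧ ∑ i, κ i * (q i : ℚ) ≤ (r : ℚ) * (ν : ℚ) := by
  constructor
  · exact Finset.sum_nonneg (fun i _ => mul_nonneg (hκ i).1.le (by positivity))
  · calc ∑ i, κ i * (q i : ℚ) ≤ ∑ _i : Fin ν, (r : ℚ) := by
          apply Finset.sum_le_sum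
          intro i _
          have h1 : (q i : ℚ) ≤ (r : ℚ) := by exact_mod_cast hq i
          have h2 : (0 : ℚ) ≤ (q i : ℚ) := by positivity
          nlinarith [(hκ i).1, (hκ i).2]
      _ = (r : ℚ) * (ν : ℚ) := by
          rw [Finset.sum_const, Finset.card_univ, Fintype.card_fin, nsmul_eq_mul, mul_comm]

theorem final_arith (A B : ℤ) (hA : 1 ≤ A) (hB : 1 ≤ B) (x y sP sE δ : ℚ) (a r ν : ℕ)
    (hδ : 0 < δ) (hsP0 : 0 ≤ sP) (hsP : sP ≤ (r : ℚ) * (ν : ℚ)) (hsE : 0 ≤ sE)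
    (h : (A : ℚ) * (x - sP) - (B : ℚ) * (y - sE) ≤ δ * (a : ℚ) * ((A : ℚ) - (B : ℚ))) :
    x / (B : ℚ) ≤ y / (A : ℚ) + ((a : ℚ) * δ + (r : ℚ) * (ν : ℚ)) := by
  have hA' : (1 : ℚ) ≤ (A : ℚ) := by exact_mod_cast hA
  have hB' : (1 : ℚ) ≤ (B : ℚ) := by exact_mod_cast hB
  have hApos : (0 : ℚ) < (A : ℚ) := by linarith
  have hBpos : (0 : ℚ) < (B : ℚ) := by linarith
  have ha : (0 : ℚ) ≤ (a : ℚ) := by positivity
  have hc : (0 : ℚ) ≤ (a : ℚ) * δ + (r : ℚ) * (ν : ℚ) := by positivity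
  rw [div_le_iff₀ hBpos]
  set t := y / (A : ℚ) with ht
  have hy : y = t * (A : ℚ) := by rw [ht, div_mul_cancel₀ _ hApos.ne']
  rw [hy] at h
  -- A x ≤ B t A + c A
  have h1 : (A : ℚ) * x ≤ (A : ℚ) * ((B : ℚ) * t + ((a : ℚ) * δ + (r : ℚ) * (ν : ℚ))) := by
    nlinarith [mul_nonneg hBpos.le hsE, mul_nonneg (mul_nonneg hδ.le ha) hBpos.le,
      mul_le_mul_of_nonneg_left hsP hApos.le]
  have h2 : x ≤ (B : ℚ) * t + ((a : ℚ) * δ + (r : ℚ) * (ν : ℚ)) :=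
    le_of_mul_le_mul_left h1 hApos
  nlinarith [mul_le_mul_of_nonneg_left hB' hc]

end Groth.Agent.H5.Dec
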