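import Mathlib
import Groth.Prelude.Def_DecSh2
import Groth.Prelude.Def_TorSh
import Groth.Agent.Lib.Helper5.Dec.Par

set_option autoImplicit false
universe u
open CategoryTheory CategoryTheory.Limits AlgebraicGeometry TopologicalSpace Opposite

namespace Groth.Agent.H5.Dec

open Groth.Agent.LD Groth.Agent.LD.QC Groth.Agent.H5.DegC

attribute [-instance] Groth.Agent.LD.QC.stalkModule

variable (k : Type u) [Field k] {Y : Scheme.{u}} [Y.Over (Spec (CommRingCat.of k))]
  [IsProper (Y ↘ Spec (CommRingCat.of k))]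

theorem par_slope_bound [Smooth (Y ↘ Spec (CommRingCat.of k))]
    (hdim : topologicalKrullDim Y ≤ 1) (hpure : ∀ y : Y, ¬ IsOpen ({y} : Set Y))
    (L : Y.Modules) (hL : CohB1.IsAmple L)
    (E : Y.Modules) (r : ℕ) (hE : FlatMod.IsFinLocFreeOfRank r E)
    {ν : ℕ} (I : Fin ν → Y.IdealSheafData)
    (K : ∀ i, Submodule k (ParSh.fibD Y (I i) E))
    (hK : ∀ i, Module.finrank k (ParSh.fibD Y (I i) E ⧸ K i) = r)
    (κ : Fin ν → ℚ) (hκ : ∀ i, 0 < κ i ∧ κ i < 1)
    {D : Y.Modules} {a b : ℕ} (T : DecSh.TF E a b D)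
    (δ : ℚ) (hδ : 0 < δ) (hT : T.IsParSemistable k I K κ L δ)
    (F : Y.Modules) (ι : F ⟶ E) [Mono ι] (hF : Coh.IsCoh F) (hF0 : ¬ IsZero F) (hι : ¬ IsIso ι) :
    (Curv2.euler k Y F : ℚ) / (DecSh.mult k Y L F : ℚ) ≤
      (Curv2.euler k Y E : ℚ) / (DecSh.mult k Y L E : ℚ) + ((a : ℚ) * δ + (r : ℚ) * (ν : ℚ)) := by
  haveI : IsReduced Y :=
    Groth.Agent.H1.SmoothGeom.isReduced_of_smooth_field k (Y ↘ Spec (CommRingCat.of k))
  haveI := Curve.isLocallyNoetherian k Y
  have hEc : Coh.IsCoh E := Curve.isCoh_of_rank hE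
  have htf : TorSh.IsTorsionFree E := isTorsionFree_of_isFinLocFree E (Curve.isFinLocFree_of_rank hE)
  have hE0 : ¬ IsZero E := fun h => hF0 (IsZero.of_mono ι h)
  let e : ((Subobject.mk ι : Subobject E) : Y.Modules) ≅ F := Subobject.underlyingIso ι
  have hP : (Subobject.mk ι : Subobject E) ≠ ⊤ := by
    intro h
    apply hι
    have h1 : IsIso (Subobject.mk ι).arrow := (Subobject.isIso_arrow_iff_eq_top _).mpr h
    have h2 : e.inv ≫ (Subobject.mk ι).arrow = ι := Subobject.underlyingIso_arrow ι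
    rw [← h2]
    infer_instance
  have hP0 : ¬ IsZero ((Subobject.mk ι : Subobject E) : Y.Modules) :=
    fun h => hF0 (h.of_iso e.symm)
  have hok : Coh.IsCoh ((Subobject.mk ι : Subobject E) : Y.Modules) := isCoh_of_iso e.symm hF
  have hA : 1 ≤ DecSh.mult k Y L E := one_le_mult k hdim hpure L hL E hEc htf hE0
  have hB : 1 ≤ DecSh.mult k Y L F :=
    one_le_mult k hdim hpure L hL F hF (isTorsionFree_of_mono ι htf) hF0
  have h := single_bound (fun P : Subobject E => Coh.IsCoh (P : Y.Modules)) (DecSh.mult k Y L E)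
    (fun P => DecSh.mult k Y L (P : Y.Modules)) (DecSh.parChi k I K κ (𝟙 E))
    (fun P => DecSh.parChi k I K κ P.arrow) T.nv δ hT hδ.le (le_trans zero_le_one hA)
    (Subobject.mk ι) hP hP0 hok
  beta_reduce at h
  rw [mult_iso k L e] at h
  unfold DecSh.parChi at h
  rw [Curve.euler_iso k Y e] at h
  have hfin : ∀ i, Module.Finite k (ParSh.fibD Y (I i) E) := fun i =>
    Curve.finite_HH k Y _ (isCoh_tensorMod' hEc (isCoh_quotMod (I i))) 0
  have hq : ∀ (G : Y.Modules) (φ : G ⟶ E) (i : Fin ν),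
      Module.finrank k ((LinearMap.range (ParSh.fibDMap k Y (I i) φ)).map (K i).mkQ) ≤ r := by
    intro G φ i
    haveI := hfin i
    rw [← hK i]
    exact Submodule.finrank_le _
  obtain ⟨hsP0, hsP⟩ := par_sum_bounds κ hκ
    (fun i => Module.finrank k ((LinearMap.range
      (ParSh.fibDMap k Y (I i) (Subobject.mk ι).arrow)).map (K i).mkQ)) r (fun i => hq _ _ i)
  obtain ⟨hsE0, -⟩ := par_sum_bounds κ hκ
    (fun i => Module.finrank k ((LinearMap.range
      (ParSh.fibDMap k Y (I i) (𝟙 E))).map (K i).mkQ)) r (fun i => hq _ _ i)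
  exact final_arith _ _ hA hB _ _ _ _ δ a r ν hδ hsP0 hsP hsE0 h

end Groth.Agent.H5.Dec
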